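import Cfsg.Agent.H399.Defs
import Cfsg.Agent.H341.ThreeList_m3
import Cfsg.Agent.McLType.ThreeElts
import Cfsg.Agent.FastGrp
import Cfsg.Agent.Prune
set_option linter.all false

-- part: H345/EOneBase
section
set_option linter.all false
open scoped Cfsg.Agent.FastGrp

/-!
# The configuration of order 11664: the data used in the elimination of the known simple groups (helper345)
-/

set_option autoImplicit false

namespace Cfsg.Agent.H345.EOne

open Cfsg Subgroup Cfsg.Agent.H399
open scoped Pointwise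

universe u

/-- The facts used. -/
structure Hy (K : Type u) [Group K] : Prop where
  h6 : 3 ^ 6 ∣ Nat.card K
  h7 : ¬ 3 ^ 7 ∣ Nat.card K
  hm : Nat.card K / 729 % 3 = 2
  hab : ∀ B : Subgroup K, IsPGroup 3 B → (∀ x ∈ B, ∀ y ∈ B, x * y = y * x) → Nat.card B ≤ 81
  hz : ∃ z : K, orderOf z = 3 ∧ Nat.card (centralizer ({z} : Set K)) = 5832
  hV : ∀ P : Subgroup K, IsPGroup 3 P → ∃ v w : K, orderOf v = 3 ∧ orderOf w = 3 ∧ w ∉ zpowers v ∧
    (∀ x ∈ P, v * x = x * v) ∧ (∀ x ∈ P, w * x = x * w)
  hN : ∀ P : Subgroup K, Nat.card P = 729 → Nat.card (normalizer (P : Set K)) = 5832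
  hA : ∃ A : Subgroup K, A ≠ ⊤ ∧ Nat.card A = 11664

theorem Hy.congr {K : Type u} [Group K] {M : Type*} [Group M] (h : Hy K) (e : K ≃* M) : Hy M where
  h6 := by rw [← Nat.card_congr e.toEquiv]; exact h.h6
  h7 := by rw [← Nat.card_congr e.toEquiv]; exact h.h7
  hm := by rw [← Nat.card_congr e.toEquiv]; exact h.hm
  hab := by
    intro A hA hc
    have h1 := h.hab (A.map e.symm.toMonoidHom) (hA.map _) (by
      rintro _ ⟨a, ha, rfl⟩ _ ⟨b, hb, rfl⟩
      rw [← map_mul, ← map_mul, hc a ha b hb])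
    rwa [Subgroup.card_map_of_injective e.symm.injective] at h1
  hz := by
    obtain ⟨z, hz, hc⟩ := h.hz
    refine ⟨e z, ?_, ?_⟩
    · rw [MulEquiv.orderOf_eq, hz]
    · rw [← hc]
      have h1 : centralizer ({e z} : Set M) = (centralizer ({z} : Set K)).map e.toMonoidHom := by
        ext x
        rw [mem_map]
        constructor
        · intro hx
          refine ⟨e.symm x, ?_, by simp⟩
          rw [mem_centralizer_singleton_iff] at hx ⊢
          apply e.injective
          simpa using hx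
        · rintro ⟨y, hy, rfl⟩
          rw [mem_centralizer_singleton_iff] at hy ⊢
          change e y * e z = e z * e y
          rw [← map_mul, hy, map_mul]
      rw [h1, Subgroup.card_map_of_injective e.injective]
  hV := by
    intro P hP
    obtain ⟨v, w, h1, h2, h3, h4, h5⟩ := h.hV (P.map e.symm.toMonoidHom) (hP.map _)
    refine ⟨e v, e w, ?_, ?_, ?_, ?_, ?_⟩
    · rw [MulEquiv.orderOf_eq, h1]
    · rw [MulEquiv.orderOf_eq, h2]
    · intro hw
      obtain ⟨k, hk⟩ := mem_zpowers_iff.1 hw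
      rw [← map_zpow] at hk
      exact h3 (mem_zpowers_iff.2 ⟨k, e.injective hk⟩)
    · intro x hx
      have h6 := congrArg e (h4 (e.symm x) ⟨x, hx, rfl⟩)
      simpa using h6
    · intro x hx
      have h6 := congrArg e (h5 (e.symm x) ⟨x, hx, rfl⟩)
      simpa using h6
  hN := by
    intro P hP
    have h1 := h.hN (P.comap e.toMonoidHom) (by
      rw [← hP]
      exact Nat.card_congr (e.toEquiv.subtypeEquiv fun x => Iff.rfl))
    rw [← h1]
    have h2 : normalizer (P : Set M) = (normalizer ((P.comap e.toMonoidHom : Subgroup K) : Set K)).map e.toMonoidHom := by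
      ext x
      constructor
      · intro hx
        refine ⟨e.symm x, ?_, by simp⟩
        rw [SetLike.mem_coe, mem_normalizer_iff] at *
        intro y
        rw [mem_comap, mem_comap]
        have := hx (e y)
        simpa using this
      · rintro ⟨y, hy, rfl⟩
        rw [SetLike.mem_coe, mem_normalizer_iff] at hy
        rw [mem_normalizer_iff]
        intro w
        have := hy (e.symm w)
        rw [mem_comap, mem_comap] at this
        simpa using this
    rw [h2, Subgroup.card_map_of_injective e.injective]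
  hA := by
    obtain ⟨A, h2, h3⟩ := h.hA
    refine ⟨A.map e.toMonoidHom, ?_, ?_⟩
    · intro h4
      apply h2
      rw [eq_top_iff]
      intro x _
      have : e x ∈ A.map e.toMonoidHom := by rw [h4]; trivial
      obtain ⟨y, hy, hxy⟩ := this
      rw [← e.injective hxy]
      exact hy
    · rw [Subgroup.card_map_of_injective e.injective, h3]

theorem sylow_of_card {K : Type u} [Group K] [Finite K] (h6 : 3 ^ 6 ∣ Nat.card K) (h7 : ¬ 3 ^ 7 ∣ Nat.card K)
    {P : Subgroup K} (hP : Nat.card P = 729) : ∃ Q : Sylow 3 K, (Q : Subgroup K) = P := by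
  have : Fact (Nat.Prime 3) := ⟨Nat.prime_three⟩
  have h1 : (Nat.card K).factorization 3 = 6 := by
    apply le_antisymm
    · by_contra h
      exact h7 ((Nat.prime_three.pow_dvd_iff_le_factorization Nat.card_pos.ne').2 (by omega))
    · exact (Nat.prime_three.pow_dvd_iff_le_factorization Nat.card_pos.ne').1 h6
  exact ⟨Sylow.ofCard P (by rw [h1, hP]; norm_num), rfl⟩

theorem Hy.of_conf {K : Type u} [Group K] [Finite K] {A S : Subgroup K} {z g : K} (hc : Conf11664 A S z g)
    (hm : Nat.card K / 729 % 3 = 2)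
    (hab : ∀ B : Subgroup K, IsPGroup 3 B → (∀ x ∈ B, ∀ y ∈ B, x * y = y * x) → Nat.card B ≤ 81) : Hy K := by
  have : Fact (Nat.Prime 3) := ⟨Nat.prime_three⟩
  have h6 : 3 ^ 6 ∣ Nat.card K := by
    have := Subgroup.card_subgroup_dvd_card S
    rw [hc.cardS] at this
    exact this
  have h7 : ¬ 3 ^ 7 ∣ Nat.card K := hc.sylow
  obtain ⟨S', hS'⟩ := sylow_of_card h6 h7 hc.cardS
  have hzS : ∀ x ∈ S, z * x = x * z := by
    intro x hx
    rw [← hc.cent] at hx
    exact mem_centralizer_iff.1 hx z (by simp)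
  have hyS : ∀ x ∈ S, (g * z * g⁻¹) * x = x * (g * z * g⁻¹) := by
    intro x hx
    rw [← hc.cent] at hx
    exact mem_centralizer_iff.1 hx _ (by simp)
  have hy3 : orderOf (g * z * g⁻¹) = 3 := by
    rw [← hc.orderz]
    exact orderOf_injective (MulAut.conj g).toMonoidHom (MulAut.conj g).injective z
  have hyz : g * z * g⁻¹ ∉ zpowers z := by
    intro hy
    have h1 : zpowers (g * z * g⁻¹) = zpowers z := by
      apply Subgroup.eq_of_le_of_card_ge
      · exact (zpowers_le).2 hy
      · rw [Nat.card_zpowers, Nat.card_zpowers, hy3, hc.orderz]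
    have h2 : g ∈ A := by
      rw [← hc.norm, mem_normalizer_iff]
      intro x
      constructor
      · intro hx
        obtain ⟨k, rfl⟩ := mem_zpowers_iff.1 hx
        rw [← h1]
        exact mem_zpowers_iff.2 ⟨k, by rw [conj_zpow]⟩
      · intro hx
        rw [← h1] at hx
        obtain ⟨k, hk⟩ := mem_zpowers_iff.1 hx
        rw [conj_zpow] at hk
        have : z ^ k = x := by
          have h3 := congrArg (fun t => g⁻¹ * t * g) hk
          simpa [mul_assoc] using h3
        exact mem_zpowers_iff.2 ⟨k, this⟩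
    have h3 : MulAut.conj g • A = A := by
      ext x
      rw [Subgroup.mem_pointwise_smul_iff_inv_smul_mem]
      have : (MulAut.conj g)⁻¹ • x = g⁻¹ * x * g := by
        rw [← map_inv]
        simp [MulAut.smul_def]
      rw [this]
      constructor
      · intro hx
        have := mul_mem (mul_mem h2 hx) (inv_mem h2)
        simpa [mul_assoc] using this
      · intro hx
        exact mul_mem (mul_mem (inv_mem h2) hx) h2
    have h4 := hc.idx
    rw [h3, Subgroup.relIndex_self] at h4
    omega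
  refine ⟨h6, h7, hm, hab, ⟨z, hc.orderz, hc.cardC⟩, ?_, ?_, ⟨A, hc.max.1, hc.cardA⟩⟩
  · intro P hP
    obtain ⟨Q, hQ⟩ := hP.exists_le_sylow
    obtain ⟨c, hc'⟩ := MulAction.exists_smul_eq K S' Q
    have hmem : ∀ x ∈ P, c⁻¹ * x * c ∈ S := by
      intro x hx
      have h1 := hQ hx
      rw [← hc'] at h1
      have h2 : x ∈ MulAut.conj c • (S' : Subgroup K) := h1
      rw [Subgroup.mem_pointwise_smul_iff_inv_smul_mem] at h2
      have h3 : (MulAut.conj c)⁻¹ • x = c⁻¹ * x * c := by
        rw [← map_inv]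
        simp [MulAut.smul_def]
      rw [h3, hS'] at h2
      exact h2
    have key : ∀ t : K, (∀ x ∈ S, t * x = x * t) → ∀ x ∈ P, (c * t * c⁻¹) * x = x * (c * t * c⁻¹) := by
      intro t ht x hx
      have h1 := ht _ (hmem x hx)
      calc (c * t * c⁻¹) * x = c * (t * (c⁻¹ * x * c)) * c⁻¹ := by group
        _ = c * ((c⁻¹ * x * c) * t) * c⁻¹ := by rw [h1]
        _ = x * (c * t * c⁻¹) := by group
    refine ⟨c * z * c⁻¹, c * (g * z * g⁻¹) * c⁻¹, ?_, ?_, ?_, key _ hzS, key _ hyS⟩
    · rw [← hc.orderz]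
      exact orderOf_injective (MulAut.conj c).toMonoidHom (MulAut.conj c).injective z
    · rw [← hy3]
      exact orderOf_injective (MulAut.conj c).toMonoidHom (MulAut.conj c).injective _
    · intro hw
      obtain ⟨k, hk⟩ := mem_zpowers_iff.1 hw
      rw [conj_zpow] at hk
      apply hyz
      refine mem_zpowers_iff.2 ⟨k, ?_⟩
      have h3 := congrArg (fun t => c⁻¹ * t * c) hk
      simpa [mul_assoc] using h3
  · intro P hP
    obtain ⟨Q, hQ⟩ := sylow_of_card h6 h7 hP
    obtain ⟨c, hc'⟩ := MulAction.exists_smul_eq K S' Q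
    have h1 : MulAut.conj c • S = P := by
      rw [← hQ, ← hc', ← hS']
      rfl
    have h2 : P = S.map (MulAut.conj c).toMonoidHom := h1.symm
    rw [h2, ← Subgroup.map_equiv_normalizer_eq, Subgroup.card_map_of_injective (MulAut.conj c).injective, hc.cardN]

end Cfsg.Agent.H345.EOne
end

-- part: H345/EOneMcL
section
set_option linter.all false
open scoped Cfsg.Agent.FastGrp

/-!
# The configuration of order 11664: `McL` and `Co_2` (helper345)

The centre of a Sylow 3-subgroup of `McL` has order 3, and `McL` contains a Sylow 3-subgroup of `Co_2`.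
-/

set_option autoImplicit false

namespace Cfsg.Agent.H345.EOne

open Cfsg Subgroup

/-! ### a Sylow 3-subgroup with a centre of order 3 -/

theorem Hy.zc {G : Type*} [Group G] [Finite G] (h : Hy G) {P : Subgroup G} (hP : Nat.card P = 729)
    (hc : ∀ x ∈ P, ∀ y ∈ P, (∀ t ∈ P, x * t = t * x) → (∀ t ∈ P, y * t = t * y) → x ≠ 1 → y ∈ zpowers x) : False := by
  have : Fact (Nat.Prime 3) := ⟨Nat.prime_three⟩
  have hP3 : IsPGroup 3 P := IsPGroup.of_card (n := 6) (by rw [hP]; norm_num)
  obtain ⟨v, w, hv, hw, hvw, hvP, hwP⟩ := h.hV P hP3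
  have key : ∀ v : G, orderOf v = 3 → (∀ x ∈ P, v * x = x * v) → v ∈ P := by
    intro v hv hvP
    have h1 : IsPGroup 3 (zpowers v) := IsPGroup.of_card (n := 1) (by rw [Nat.card_zpowers, hv, pow_one])
    have h2 : IsPGroup 3 (P ⊔ zpowers v : Subgroup G) := by
      refine hP3.to_sup_of_normal_left' h1 ?_
      rw [zpowers_le, mem_normalizer_iff]
      have h3 : ∀ x ∈ P, v * x * v⁻¹ = x := fun x hx => by rw [hvP x hx, mul_inv_cancel_right]
      intro x
      constructor
      · intro hx
        rw [h3 x hx]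
        exact hx
      · intro hx
        have h4 := hvP _ hx
        have h5 : v * x * v⁻¹ = x := by
          have h6 : v * (v * x * v⁻¹) * v⁻¹ = v * x * v⁻¹ := by rw [h4, mul_inv_cancel_right]
          have h7 : v * x * v⁻¹ = x := by
            have h8 := congrArg (fun t => v⁻¹ * t * v) h6
            simpa [mul_assoc] using h8
          exact h7
        rw [h5] at hx
        exact hx
    obtain ⟨k, hk⟩ := IsPGroup.iff_card.1 h2
    have h3 : k ≤ 6 := by
      by_contra hcon
      apply h.h7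
      have h4 := Subgroup.card_subgroup_dvd_card (P ⊔ zpowers v)
      rw [hk] at h4
      exact (pow_dvd_pow 3 (by omega)).trans h4
    have h4 : P = P ⊔ zpowers v := by
      apply Subgroup.eq_of_le_of_card_ge le_sup_left
      rw [hk, hP]
      exact (Nat.pow_le_pow_right (by norm_num) h3).trans (by norm_num)
    rw [h4]
    exact mem_sup_right (mem_zpowers v)
  refine hvw (hc v (key v hv hvP) w (key w hw hwP) hvP hwP ?_)
  rintro rfl
  rw [orderOf_one] at hv
  omega

/-! ### `McL` -/

open Cfsg.Agent.SporadicStructure.PermChain Cfsg.Agent.McLType.Chain Cfsg.Agent.McLType.X275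
open Cfsg.Agent.McLType.Gens Cfsg.Agent.McLType.Model
open Cfsg.Agent.McLType.ThreeElts (pt π wn wn6_lt nf nf_mem exists_nf6 eq_of_base evalπ word_mem π_mem P card_P P_le_K0
  mem_K0_iff nf_zero)

def commB (l : List ℕ) (s : ℕ) : Bool :=
  Nat.beq (evalWord 9 pt (l ++ [s]) 1) (evalWord 9 pt (s :: l) 1) &&
    Nat.beq (evalWord 9 pt (l ++ [s]) 2) (evalWord 9 pt (s :: l) 2)

def ctr (N : ℕ) : Bool := commB (wn 6 0 N) 0 && commB (wn 6 0 N) 1 && commB (wn 6 0 N) 2 && commB (wn 6 0 N) 3 &&
  commB (wn 6 0 N) 4 && commB (wn 6 0 N) 5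

theorem ctrOK : allBelow (fun N => !(ctr N) || Nat.beq N 0 || Nat.beq N 27 || Nat.beq N 54) 729 = true := by
  decide +kernel

theorem commB_of {N s : ℕ} (hs : s < 6) (h : nf N * π s = π s * nf N) : commB (wn 6 0 N) s = true := by
  have h1 : (((wn 6 0 N ++ [s]).map π).prod : Equiv.Perm (Fin 275)) = (((s :: wn 6 0 N).map π).prod) := by
    rw [List.map_append, List.prod_append, List.map_cons, List.prod_cons, List.map_cons, List.map_nil, List.prod_cons,
      List.prod_nil, mul_one]
    exact h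
  have hl : ∀ t ∈ wn 6 0 N ++ [s], t < 6 := by
    intro t ht
    rcases List.mem_append.1 ht with ht | ht
    · exact wn6_lt N t ht
    · rw [List.mem_singleton.1 ht]; exact hs
  have hr : ∀ t ∈ s :: wn 6 0 N, t < 6 := by
    intro t ht
    rcases List.mem_cons.1 ht with ht | ht
    · rw [ht]; exact hs
    · exact wn6_lt N t ht
  have h2 : ∀ x : Fin 275, evalWord 9 pt (wn 6 0 N ++ [s]) x = evalWord 9 pt (s :: wn 6 0 N) x := by
    intro x
    rw [← evalπ _ hl, ← evalπ _ hr, h1]
  unfold commB
  rw [Bool.and_eq_true, Nat.beq_eq, Nat.beq_eq]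
  exact ⟨h2 1, h2 2⟩

theorem center_nf {x : Equiv.Perm (Fin 275)} (hx : x ∈ P) (hc : ∀ t ∈ P, x * t = t * x) (h1 : x ≠ 1) :
    x = nf 27 ∨ x = nf 54 := by
  obtain ⟨N, hN, rfl⟩ := exists_nf6 hx
  have h := allBelow_spec _ _ ctrOK N hN
  have hctr : ctr N = true := by
    unfold ctr
    rw [commB_of (by norm_num) (hc _ (π_mem 0 (by norm_num))), commB_of (by norm_num) (hc _ (π_mem 1 (by norm_num))),
      commB_of (by norm_num) (hc _ (π_mem 2 (by norm_num))), commB_of (by norm_num) (hc _ (π_mem 3 (by norm_num))),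
      commB_of (by norm_num) (hc _ (π_mem 4 (by norm_num))), commB_of (by norm_num) (hc _ (π_mem 5 (by norm_num)))]
    rfl
  rw [hctr] at h
  simp only [Bool.not_true, Bool.false_or, Bool.or_eq_true, Nat.beq_eq] at h
  rcases h with (h | h) | h
  · exfalso
    apply h1
    rw [h]
    exact nf_zero
  · left; rw [h]
  · right; rw [h]

theorem center_zpowers {x y : Equiv.Perm (Fin 275)} (hx : x ∈ P) (hy : y ∈ P) (hxc : ∀ t ∈ P, x * t = t * x)
    (hyc : ∀ t ∈ P, y * t = t * y) (h1 : x ≠ 1) : y ∈ zpowers x := by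
  by_cases hy1 : y = 1
  · rw [hy1]
    exact one_mem _
  have hx2 : x * x ≠ 1 := by
    intro h
    have h3 : orderOf x ∣ 2 := orderOf_dvd_of_pow_eq_one (by rw [pow_two]; exact h)
    have h4 : orderOf x ∣ 729 := by
      have := orderOf_dvd_natCard (⟨x, hx⟩ : P)
      rwa [← Subgroup.orderOf_coe, card_P] at this
    have h5 : orderOf x ∣ Nat.gcd 2 729 := Nat.dvd_gcd h3 h4
    have h6 : orderOf x = 1 := by
      have h7 : Nat.gcd 2 729 = 1 := by norm_num
      rw [h7] at h5
      exact Nat.dvd_one.1 h5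
    exact h1 (orderOf_eq_one_iff.1 h6)
  have hxx : x * x ≠ x := fun h => h1 (mul_eq_left.1 h)
  have h2 := center_nf hx hxc h1
  have h3 := center_nf (P.mul_mem hx hx) (fun t ht => by
    rw [mul_assoc, hxc t ht, ← mul_assoc, hxc t ht, mul_assoc]) hx2
  have h4 := center_nf hy hyc hy1
  have h5 : y = x ∨ y = x * x := by
    rcases h2 with h2 | h2 <;> rcases h3 with h3 | h3 <;> rcases h4 with h4 | h4
    · left; rw [h4, h2]
    · exact absurd (h3.trans h2.symm) hxx
    · left; rw [h4, h2]
    · right; rw [h4, h3]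
    · right; rw [h4, h3]
    · left; rw [h4, h2]
    · exact absurd (h3.trans h2.symm) hxx
    · left; rw [h4, h2]
  rcases h5 with h5 | h5
  · rw [h5]; exact mem_zpowers x
  · rw [h5]; exact mul_mem (mem_zpowers x) (mem_zpowers x)

/-- a group containing `McL` -/
theorem mcl_false {G : Type*} [Group G] [Finite G] (h : Hy G) (f : G1 →* G) (hf : Function.Injective f) : False := by
  have h2 : (P.comap ψ).map ψ = P := by
    rw [Subgroup.map_comap_eq_self]
    intro y hy
    obtain ⟨g, hg⟩ := mem_K0_iff.1 (P_le_K0 hy)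
    exact ⟨g, hg⟩
  have hc1 : Nat.card (P.comap ψ) = 729 := by
    rw [← card_P]
    have h3 : Nat.card ((P.comap ψ).map ψ) = Nat.card (P.comap ψ) := Subgroup.card_map_of_injective ψ_injective
    rw [← h3, h2]
  refine h.zc (P := (P.comap ψ).map f) (by rw [Subgroup.card_map_of_injective hf, hc1]) ?_
  rintro _ ⟨a, ha, rfl⟩ _ ⟨b, hb, rfl⟩ hac hbc ha1
  have hka : ∀ {a : G1}, (∀ t ∈ (P.comap ψ).map f, f a * t = t * f a) → ∀ t ∈ P, ψ a * t = t * ψ a := by
    intro a hac t ht
    obtain ⟨s, rfl⟩ := mem_K0_iff.1 (P_le_K0 ht)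
    have h3 := hac (f s) ⟨s, ht, rfl⟩
    rw [← map_mul, ← map_mul] at h3
    rw [← map_mul, ← map_mul, hf h3]
  have h3 := center_zpowers (show ψ a ∈ P from ha) (show ψ b ∈ P from hb) (hka hac) (hka hbc) (by
    intro h
    apply ha1
    rw [← map_one ψ] at h
    rw [ψ_injective h, map_one])
  obtain ⟨k, hk⟩ := mem_zpowers_iff.1 h3
  rw [← map_zpow] at hk
  refine mem_zpowers_iff.2 ⟨k, ?_⟩
  rw [← map_zpow, ψ_injective hk]

theorem mcl {G : Type*} [Group G] [Finite G] (h : Hy G) (hG : Spor.IsoMcL G) : False := by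
  obtain ⟨e⟩ := hG
  obtain ⟨e'⟩ := isoMcL_G1
  exact mcl_false h (e'.trans e.symm).toMonoidHom (e'.trans e.symm).injective

theorem coTwo {G : Type*} [Group G] [Finite G] (h : Hy G) (hG : Spor.IsoCo2 G) : False := by
  obtain ⟨e⟩ := hG
  obtain ⟨e'⟩ := isoMcL_G1
  have hle : Spor.McL ≤ Spor.Co2 := le_inf (inf_le_left.trans inf_le_left) inf_le_right
  exact mcl_false h (e.symm.toMonoidHom.comp ((Subgroup.inclusion hle).comp e'.toMonoidHom))
    (e.symm.injective.comp ((Subgroup.inclusion_injective hle).comp e'.injective))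

end Cfsg.Agent.H345.EOne
end
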