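import Cfsg.Agent.H800.Sp.Base_m3
import Cfsg.Agent.OddOrderLocal.Thm36Aux
import Cfsg.Agent.S0075
import Cfsg.Agent.Lib.Cores
import Cfsg.Agent.FastGrp
import Cfsg.Agent.Prune
set_option linter.all false
prune_inst 0x7f00000000000000000000000000000000000000000000000000000000000000000000000000000000000000000000000000000000000000000000000000000000000000000000000000000000000000003fffffffffffffffffffffffffffbeffbdffffffff
open scoped Cfsg.Agent.FastGrp

/-!
# S3347: reduction to simple groups

An abelian noncyclic Sylow `p`-subgroup `P`, `p` odd, with `|N(P) : C(P)| = 2` and `O^p(G) = G`: the normaliser acts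
on `P` by `±1`, and either `G` has `p`-length one or `P` lies in a simple subgroup of a quotient.
-/

set_option autoImplicit false

namespace Cfsg.Agent.H345.STA

open Cfsg Subgroup Cfsg.Agent.H795

universe u

/-- `N_G(P)` acts by `±1` on `P` -/
def PM {G : Type*} [Group G] (P : Subgroup G) : Prop :=
  ∀ n ∈ normalizer (P : Set G), (∀ x ∈ P, n * x * n⁻¹ = x) ∨ (∀ x ∈ P, n * x * n⁻¹ = x⁻¹)

section

variable {G : Type*} [Group G] [Finite G] {p : ℕ} [hp : Fact p.Prime]

/-- Burnside's transfer theorem inside a subgroup -/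
theorem exists_compl (P : Sylow p G) {H : Subgroup G} (hPH : (P : Subgroup G) ≤ H)
    (h : ∀ n ∈ H, n ∈ normalizer ((P : Subgroup G) : Set G) → ∀ x ∈ (P : Subgroup G), n * x * n⁻¹ = x) :
    ∃ D : Subgroup H, D.Normal ∧ (Nat.card D).Coprime p ∧ D ⊔ (P.subtype hPH : Subgroup H) = ⊤ := by
  have h1 : normalizer ((P.subtype hPH : Subgroup H) : Set H) ≤
      centralizer ((P.subtype hPH : Subgroup H) : Set H) := by
    intro n hn
    have h2 : (n : G) ∈ normalizer ((P : Subgroup G) : Set G) := by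
      rw [mem_normalizer_iff'']
      intro x
      constructor
      · intro hx
        have h3 := (mem_normalizer_iff''.1 hn ⟨x, hPH hx⟩).1 (by
          rw [Sylow.coe_subtype, mem_subgroupOf]
          exact hx)
        rw [Sylow.coe_subtype, mem_subgroupOf] at h3
        exact h3
      · intro hx
        have h4 : x ∈ H := by
          have h5 := H.mul_mem (H.mul_mem n.2 (hPH hx)) (H.inv_mem n.2)
          have h6 : (n : G) * ((n : G)⁻¹ * x * n) * (n : G)⁻¹ = x := by group
          rwa [h6] at h5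
        have h3 := (mem_normalizer_iff''.1 hn ⟨x, h4⟩).2 (by
          rw [Sylow.coe_subtype, mem_subgroupOf]
          exact hx)
        rw [Sylow.coe_subtype, mem_subgroupOf] at h3
        exact h3
    rw [mem_centralizer_iff]
    intro x hx
    rw [Sylow.coe_subtype] at hx
    have hx' : (x : G) ∈ (P : Subgroup G) := mem_subgroupOf.1 hx
    apply Subtype.ext
    have h3 := h n n.2 h2 x hx'
    rw [mul_inv_eq_iff_eq_mul] at h3
    exact h3.symm
  refine ⟨(MonoidHom.transferSylow (P.subtype hPH) h1).ker, inferInstance, ?_, ?_⟩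
  · rw [Nat.coprime_comm, hp.out.coprime_iff_not_dvd]
    exact MonoidHom.not_dvd_card_ker_transferSylow (P.subtype hPH) h1
  · exact (MonoidHom.ker_transferSylow_isComplement' (P.subtype hPH) h1).sup_eq_top

omit hp [Finite G] in
/-- `x² = 1` for a `p`-element, `p` odd, forces `x = 1` -/
theorem eq_one_of_sq [Fact p.Prime] (hp2 : p ≠ 2) (P : Sylow p G) {x : G} (hx : x ∈ (P : Subgroup G))
    (h2 : x * x = 1) : x = 1 := by
  obtain ⟨k, hk⟩ := P.2 ⟨x, hx⟩
  have hk' : x ^ p ^ k = 1 := congrArg Subtype.val hk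
  have h3 : x ^ Nat.gcd (p ^ k) 2 = 1 := pow_gcd_eq_one.2 ⟨hk', by rw [pow_two]; exact h2⟩
  have h4 : Nat.gcd (p ^ k) 2 = 1 :=
    Nat.Coprime.pow_left k ((Nat.coprime_primes Fact.out Nat.prime_two).2 hp2)
  rwa [h4, pow_one] at h3

omit hp [Finite G] in
theorem mem_of_sq [Fact p.Prime] (hp2 : p ≠ 2) (P : Sylow p G) (M : Subgroup G) {x : G} (hx : x ∈ (P : Subgroup G))
    (h2 : x * x ∈ M) : x ∈ M := by
  obtain ⟨k, hk⟩ := P.2 ⟨x, hx⟩
  have hk' : x ^ p ^ k = 1 := congrArg Subtype.val hk
  have hodd : Odd (p ^ k) := ((Nat.Prime.odd_of_ne_two Fact.out hp2)).pow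
  obtain ⟨m, hm⟩ := hodd
  have h3 : (x * x) ^ (m + 1) = x := by
    rw [← pow_two, ← pow_mul, show 2 * (m + 1) = (2 * m + 1) + 1 by ring, pow_succ, ← hm, hk', one_mul]
  rw [← h3]
  exact M.pow_mem h2 _

/-- a nontrivial normal subgroup contains `P` -/
theorem le_of_normal (hp2 : p ≠ 2) (hO' : pPrimeCore p G = ⊥) (hO : pCore p G = ⊥) (P : Sylow p G)
    (hab : IsMulCommutative (P : Subgroup G)) (hPM : PM (P : Subgroup G)) (M : Subgroup G) [hMn : M.Normal]
    (hM : M ≠ ⊥) : (P : Subgroup G) ≤ M := by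
  by_contra hcon
  obtain ⟨y, hy, hyM⟩ := SetLike.not_le_iff_exists.1 hcon
  have hNM : ∀ m ∈ M, m ∈ normalizer ((P : Subgroup G) : Set G) → ∀ x ∈ (P : Subgroup G), m * x * m⁻¹ = x := by
    intro m hm hn
    rcases hPM m hn with h1 | h1
    · exact h1
    · exfalso
      apply hyM
      have h2 := h1 y hy
      have h3 : m * (y * m⁻¹ * y⁻¹) ∈ M := M.mul_mem hm (hMn.conj_mem _ (M.inv_mem hm) y)
      have h4 : m * (y * m⁻¹ * y⁻¹) = y⁻¹ * y⁻¹ := by rw [← h2]; group
      rw [h4] at h3
      have h5 := mem_of_sq hp2 P M ((P : Subgroup G).inv_mem hy) h3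
      exact (Subgroup.inv_mem_iff M).1 h5
  have hPH : (P : Subgroup G) ≤ M ⊔ (P : Subgroup G) := le_sup_right
  obtain ⟨D, hDn, hDc, hD⟩ := exists_compl P hPH (by
    intro n hn hnn x hx
    rw [mem_sup_of_normal_left] at hn
    obtain ⟨m, hm, u, hu, rfl⟩ := hn
    have h1 : m ∈ normalizer ((P : Subgroup G) : Set G) := by
      have h2 := (normalizer ((P : Subgroup G) : Set G)).mul_mem hnn
        ((normalizer ((P : Subgroup G) : Set G)).inv_mem (le_normalizer hu))
      rwa [mul_inv_cancel_right] at h2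
    have h3 := hNM m hm h1 x hx
    have h4 : u * x * u⁻¹ = x := by rw [comm_of hab hu hx, mul_inv_cancel_right]
    calc m * u * x * (m * u)⁻¹ = m * (u * x * u⁻¹) * m⁻¹ := by group
      _ = x := by rw [h4, h3])
  -- `M ∩ D` is a normal `p'`-subgroup of `M`
  have hDM : ∀ d : (M ⊔ (P : Subgroup G) : Subgroup G), d ∈ D → (d : G) ∈ M → d = 1 := by
    have hMH : M ≤ M ⊔ (P : Subgroup G) := le_sup_left
    set E : Subgroup M := D.comap (Subgroup.inclusion hMH) with hE
    have hEn : E.Normal := by rw [hE]; infer_instance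
    have hEc : (Nat.card E).Coprime p := by
      refine Nat.Coprime.coprime_dvd_left ?_ hDc
      have h1 : Nat.card (E.map (Subgroup.inclusion hMH)) = Nat.card E :=
        card_map_of_injective (Subgroup.inclusion_injective hMH)
      rw [← h1]
      exact card_dvd_of_le (Subgroup.map_comap_le _ _)
    have h2 := Lib.Cores.le_pPrimeCore hEn hEc
    have h3 := Lib.Cores.map_subtype_pPrimeCore p hMn
    rw [hO', inf_bot_eq, Subgroup.map_eq_bot_iff_of_injective _ (Subgroup.subtype_injective _)] at h3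
    rw [h3, le_bot_iff] at h2
    intro d hd hdM
    have h4 : (⟨d, hdM⟩ : M) ∈ E := by
      rw [hE, mem_comap]
      exact hd
    rw [h2, mem_bot] at h4
    exact Subtype.ext (congrArg (fun m : M => (m : G)) h4)
  -- so `M` is a `p`-group
  apply hM
  rw [← le_bot_iff, ← hO]
  refine Lib.Cores.le_pCore hMn ?_
  have hq : IsPGroup p ((M ⊔ (P : Subgroup G) : Subgroup G) ⧸ D) := by
    intro q
    induction q using QuotientGroup.induction_on with
    | H d =>
      have h1 : d ∈ D ⊔ (P.subtype hPH : Subgroup (M ⊔ (P : Subgroup G) : Subgroup G)) := by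
        rw [hD]; exact mem_top _
      rw [mem_sup_of_normal_left] at h1
      obtain ⟨a, ha, b, hb, rfl⟩ := h1
      obtain ⟨k, hk⟩ := (P.subtype hPH).2 ⟨b, hb⟩
      have hk' : b ^ p ^ k = 1 := congrArg Subtype.val hk
      refine ⟨k, ?_⟩
      have h2 : (QuotientGroup.mk (a * b) : (M ⊔ (P : Subgroup G) : Subgroup G) ⧸ D) = QuotientGroup.mk b := by
        rw [QuotientGroup.mk_mul, (QuotientGroup.eq_one_iff a).2 ha, one_mul]
      rw [h2, ← QuotientGroup.mk_pow, hk', QuotientGroup.mk_one]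
  intro m
  have hmH : (m : G) ∈ M ⊔ (P : Subgroup G) := mem_sup_left m.2
  obtain ⟨k, hk⟩ := hq (QuotientGroup.mk ⟨m, hmH⟩)
  refine ⟨k, ?_⟩
  rw [← QuotientGroup.mk_pow, QuotientGroup.eq_one_iff] at hk
  have h1 := hDM _ hk (by
    have : ((⟨(m : G), hmH⟩ : (M ⊔ (P : Subgroup G) : Subgroup G)) ^ p ^ k : (M ⊔ (P : Subgroup G) : Subgroup G)) =
      (⟨(m : G) ^ p ^ k, (M ⊔ (P : Subgroup G)).pow_mem hmH _⟩ : (M ⊔ (P : Subgroup G) : Subgroup G)) := Subtype.ext rfl
    rw [this]
    exact M.pow_mem m.2 _)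
  exact Subtype.ext (congrArg (fun m : (M ⊔ (P : Subgroup G) : Subgroup G) => (m : G)) h1)

end

/-- the normaliser of the Sylow subgroup of a subgroup -/
theorem normalizer_subtype {G : Type*} [Group G] {p : ℕ} (P : Sylow p G) {H : Subgroup G}
    (hPH : (P : Subgroup G) ≤ H) {n : H} (hn : n ∈ normalizer ((P.subtype hPH : Subgroup H) : Set H)) :
    (n : G) ∈ normalizer ((P : Subgroup G) : Set G) := by
  rw [mem_normalizer_iff'']
  intro x
  constructor
  · intro hx
    have h3 := (mem_normalizer_iff''.1 hn ⟨x, hPH hx⟩).1 (by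
      rw [Sylow.coe_subtype, mem_subgroupOf]
      exact hx)
    rw [Sylow.coe_subtype, mem_subgroupOf] at h3
    exact h3
  · intro hx
    have h4 : x ∈ H := by
      have h5 := H.mul_mem (H.mul_mem n.2 (hPH hx)) (H.inv_mem n.2)
      have h6 : (n : G) * ((n : G)⁻¹ * x * n) * (n : G)⁻¹ = x := by group
      rwa [h6] at h5
    have h3 := (mem_normalizer_iff''.1 hn ⟨x, h4⟩).2 (by
      rw [Sylow.coe_subtype, mem_subgroupOf]
      exact hx)
    rw [Sylow.coe_subtype, mem_subgroupOf] at h3
    exact h3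

theorem PM_subtype {G : Type*} [Group G] {p : ℕ} {P : Sylow p G} (h : PM (P : Subgroup G)) {H : Subgroup G}
    (hPH : (P : Subgroup G) ≤ H) : PM (P.subtype hPH : Subgroup H) := by
  intro n hn
  rcases h n (normalizer_subtype P hPH hn) with h1 | h1
  · left
    intro x hx
    rw [Sylow.coe_subtype] at hx
    exact Subtype.ext (h1 x (mem_subgroupOf.1 hx))
  · right
    intro x hx
    rw [Sylow.coe_subtype] at hx
    exact Subtype.ext (h1 x (mem_subgroupOf.1 hx))

theorem comm_subtype {G : Type*} [Group G] {p : ℕ} {P : Sylow p G} (h : IsMulCommutative (P : Subgroup G))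
    {H : Subgroup G} (hPH : (P : Subgroup G) ≤ H) : IsMulCommutative (P.subtype hPH : Subgroup H) :=
  isMulCommutative_of fun a ha b hb => Subtype.ext (by
    rw [Sylow.coe_subtype] at ha hb
    exact comm_of h (mem_subgroupOf.1 ha) (mem_subgroupOf.1 hb))

/-- a simple subgroup above `P` -/
theorem exists_simple {p : ℕ} [hp : Fact p.Prime] (hp2 : p ≠ 2) : ∀ (n : ℕ) (G : Type u) [Group G] [Finite G],
    Nat.card G = n → Nontrivial G → pPrimeCore p G = ⊥ → pCore p G = ⊥ → ∀ P : Sylow p G,
    IsMulCommutative (P : Subgroup G) → PM (P : Subgroup G) →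
    ∃ K : Subgroup G, (P : Subgroup G) ≤ K ∧ IsSimpleGroup K ∧ ¬ IsMulCommutative K := by
  intro n
  induction n using Nat.strong_induction_on with
  | _ n ih =>
  intro G _ _ hn hnt hO' hO P hab hPM
  by_cases hs : IsSimpleGroup G
  · refine ⟨⊤, le_top, ?_, ?_⟩
    · exact (Subgroup.topEquiv (G := G)).isSimpleGroup
    · intro hc
      have hc' : ∀ a b : G, a * b = b * a := fun a b => comm_of hc (mem_top a) (mem_top b)
      have hPn : (P : Subgroup G).Normal := ⟨fun x hx g => by rw [hc' g x, mul_inv_cancel_right]; exact hx⟩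
      rcases hPn.eq_bot_or_eq_top with h1 | h1
      · have h2 : (⊤ : Subgroup G) ≤ pPrimeCore p G := Lib.Cores.le_pPrimeCore inferInstance (by
          rw [Nat.coprime_comm, hp.out.coprime_iff_not_dvd]
          intro h3
          have h4 := P.dvd_card_of_dvd_card (by rwa [Subgroup.card_top] at h3)
          rw [h1, Subgroup.card_bot] at h4
          exact hp.out.one_lt.ne' (Nat.dvd_one.1 h4))
        rw [hO'] at h2
        exact bot_ne_top (le_antisymm bot_le h2 |>.symm ▸ rfl : (⊥ : Subgroup G) = ⊤)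
      · have h2 : (P : Subgroup G) ≤ pCore p G := Lib.Cores.le_pCore hPn P.2
        rw [hO, h1] at h2
        exact bot_ne_top (top_le_iff.1 h2)
  · obtain ⟨M, hMn, hMb, hMt⟩ : ∃ M : Subgroup G, M.Normal ∧ M ≠ ⊥ ∧ M ≠ ⊤ := by
      by_contra hcon
      push Not at hcon
      apply hs
      exact { exists_pair_ne := hnt.exists_pair_ne
              eq_bot_or_eq_top_of_normal := fun H hH => by
                by_contra h1
                push Not at h1
                exact h1.2 (hcon H hH h1.1) }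
    have hPM' := le_of_normal hp2 hO' hO P hab hPM M hMb
    have hcard : Nat.card M < n := by
      rw [← hn]
      exact lt_of_le_of_ne (Subgroup.card_le_card_group M) (fun h => hMt (Subgroup.eq_top_of_card_eq M h))
    have h1 : pPrimeCore p M = ⊥ := by
      have h3 := Lib.Cores.map_subtype_pPrimeCore p hMn
      rwa [hO', inf_bot_eq, Subgroup.map_eq_bot_iff_of_injective _ (Subgroup.subtype_injective _)] at h3
    have h2 : pCore p M = ⊥ := by
      have h3 := Lib.Cores.map_subtype_pCore p hMn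
      rwa [hO, inf_bot_eq, Subgroup.map_eq_bot_iff_of_injective _ (Subgroup.subtype_injective _)] at h3
    obtain ⟨K, hK1, hK2, hK3⟩ := ih _ hcard M rfl ((Subgroup.nontrivial_iff_ne_bot M).2 hMb) h1 h2
      (P.subtype hPM') (comm_subtype hab hPM') (PM_subtype hPM hPM')
    have e : K ≃* K.map M.subtype := Subgroup.equivMapOfInjective K M.subtype (Subgroup.subtype_injective M)
    refine ⟨K.map M.subtype, ?_, e.symm.isSimpleGroup, ?_⟩
    · intro x hx
      exact ⟨⟨x, hPM' hx⟩, hK1 (by rw [Sylow.coe_subtype, mem_subgroupOf]; exact hx), rfl⟩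
    · intro hc
      exact hK3 ⟨⟨fun a b => e.injective (by
        rw [map_mul, map_mul]
        exact hc.is_comm.comm _ _)⟩⟩

/-- in a simple group the action of `N_K(S)` on the noncyclic abelian Sylow subgroup is not by `±1` -/
theorem isCyclic_of_PM {K : Type*} [Group K] [Finite K] {p : ℕ} [hp : Fact p.Prime] (h : AbIrr p K) (S : Sylow p K)
    (hS : IsMulCommutative (S : Subgroup K)) (hPM : PM (S : Subgroup K)) : IsCyclic (S : Subgroup K) := by
  by_cases hb : (S : Subgroup K) = ⊥
  · rw [hb]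
    infer_instance
  obtain ⟨x, hx, hxp⟩ : ∃ x ∈ (S : Subgroup K), orderOf x = p := by
    have h1 : p ∣ Nat.card (S : Subgroup K) := by
      obtain ⟨m, hm⟩ := IsPGroup.iff_card.1 S.2
      rcases Nat.eq_zero_or_pos m with h0 | h0
      · exfalso
        apply hb
        rw [h0, pow_zero] at hm
        exact Subgroup.card_eq_one.1 hm
      · rw [hm]
        exact dvd_pow_self p (by omega)
    obtain ⟨y, hy⟩ := exists_prime_orderOf_dvd_card' p h1
    exact ⟨y, y.2, by rw [Subgroup.orderOf_coe]; exact hy⟩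
  have h1 : ∀ y ∈ (S : Subgroup K), y ^ p = 1 → y ∈ zpowers x := by
    rcases h S hS (zpowers x) (by rw [zpowers_le]; exact hx) (by
        intro b hb
        obtain ⟨i, rfl⟩ := mem_zpowers_iff.1 hb
        rw [← zpow_natCast, ← zpow_mul, mul_comm, zpow_mul, zpow_natCast, ← hxp, pow_orderOf_eq_one, one_zpow])
        (by
          intro n hn b hb
          have hbS : b ∈ (S : Subgroup K) := (zpowers_le.2 hx) hb
          rcases hPM n hn with h2 | h2
          · rw [h2 b hbS]; exact hb
          · rw [h2 b hbS]; exact inv_mem hb) with h2 | h2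
    · exfalso
      rw [zpowers_eq_bot] at h2
      rw [h2, orderOf_one] at hxp
      exact hp.out.one_lt.ne hxp
    · exact h2
  obtain ⟨-, f, k, hf, ⟨e⟩⟩ := h.homocyclic S hS (S : Subgroup K) le_rfl hb (fun n hn a ha =>
    (mem_normalizer_iff.1 hn a).1 ha)
  have hcard : Nat.card {y : (S : Subgroup K) // y ^ p = 1} = p ^ k := by
    rw [← card_torsion p f k hf]
    refine Nat.card_congr (e.toEquiv.subtypeEquiv fun y => ?_)
    constructor
    · intro hy
      change (e y) ^ p = 1
      rw [← map_pow, hy, map_one]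
    · intro hy
      apply e.injective
      rw [map_pow, map_one]
      exact hy
  have hle : Nat.card {y : (S : Subgroup K) // y ^ p = 1} ≤ p := by
    have h3 : Nat.card (zpowers x) = p := by rw [Nat.card_zpowers, hxp]
    refine le_trans ?_ h3.le
    refine Nat.card_le_card_of_injective (fun y => ⟨y.1.1, h1 _ y.1.2 (congrArg Subtype.val y.2)⟩) ?_
    intro y z hyz
    have h4 : (y.1.1 : K) = z.1.1 := congrArg (fun w : zpowers x => (w : K)) hyz
    exact Subtype.ext (Subtype.ext h4)
  rw [hcard] at hle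
  have hk : k ≤ 1 := by
    by_contra hcon
    have : p ^ 1 < p ^ k := Nat.pow_lt_pow_right hp.out.one_lt (by omega)
    rw [pow_one] at this
    omega
  have hne : NeZero (p ^ f) := ⟨pow_ne_zero _ hp.out.ne_zero⟩
  rcases Nat.le_one_iff_eq_zero_or_eq_one.1 hk with rfl | rfl
  · have : Subsingleton (S : Subgroup K) := e.toEquiv.subsingleton
    infer_instance
  · have e' : (S : Subgroup K) ≃* Multiplicative (ZMod (p ^ f)) :=
      e.trans (MulEquiv.funUnique (Fin 1) (Multiplicative (ZMod (p ^ f))))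
    exact (e'.isCyclic).2 inferInstance

/-- **Main reduction**: `O_{p'}(G) = 1` -/
theorem normal_of_PM {G : Type u} [Group G] [Finite G] {p : ℕ} [hp : Fact p.Prime] (hp2 : p ≠ 2)
    (hAb : ∀ (K : Type u) [Group K] [Finite K] [IsSimpleGroup K], ¬ IsMulCommutative K → AbIrr p K)
    (hO' : pPrimeCore p G = ⊥) (P : Sylow p G)
    (hab : IsMulCommutative (P : Subgroup G)) (hPM : PM (P : Subgroup G)) (hnc : ¬ IsCyclic (P : Subgroup G)) :
    (P : Subgroup G).Normal := by
  set C := centralizer ((pCore p G : Subgroup G) : Set G) with hC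
  have hCn : C.Normal := by
    have := Lib.Cores.pCore_normal (G := G) p
    rw [hC]
    infer_instance
  have hPO : pCore p G ≤ (P : Subgroup G) := Lib.Cores.pCore_le_sylow P
  have hPC : (P : Subgroup G) ≤ C := by
    intro x hx
    rw [hC, mem_centralizer_iff]
    intro z hz
    exact comm_of hab (hPO hz) hx
  by_cases hc : ∀ n ∈ C, n ∈ normalizer ((P : Subgroup G) : Set G) → ∀ x ∈ (P : Subgroup G), n * x * n⁻¹ = x
  · obtain ⟨D, hDn, hDc, hD⟩ := exists_compl P hPC hc
    have h2 := Lib.Cores.le_pPrimeCore hDn hDc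
    have h3 := Lib.Cores.map_subtype_pPrimeCore p hCn
    rw [hO', inf_bot_eq, Subgroup.map_eq_bot_iff_of_injective _ (Subgroup.subtype_injective _)] at h3
    rw [h3, le_bot_iff] at h2
    rw [h2, bot_sup_eq, Sylow.coe_subtype, subgroupOf_eq_top] at hD
    rw [le_antisymm hPC hD]
    exact hCn
  · push Not at hc
    obtain ⟨n, hnC, hnN, x, hx, hne⟩ := hc
    exfalso
    have hinv : ∀ y ∈ (P : Subgroup G), n * y * n⁻¹ = y⁻¹ := by
      rcases hPM n hnN with h1 | h1
      · exact absurd (h1 x hx) hne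
      · exact h1
    have hO : pCore p G = ⊥ := by
      rw [eq_bot_iff]
      intro z hz
      have h1 := hinv z (hPO hz)
      have h2 := mem_centralizer_iff.1 hnC z hz
      rw [← h2, mul_inv_cancel_right] at h1
      rw [mem_bot]
      refine eq_one_of_sq hp2 P (hPO hz) ?_
      nth_rewrite 1 [h1]
      exact inv_mul_cancel z
    have hnt : Nontrivial G := by
      by_contra h1
      rw [not_nontrivial_iff_subsingleton] at h1
      exact hnc inferInstance
    obtain ⟨K, hPK, hK, hKc⟩ := exists_simple hp2 _ G rfl hnt hO' hO P hab hPM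
    have h1 := isCyclic_of_PM (hAb K hKc) (P.subtype hPK) (comm_subtype hab hPK) (PM_subtype hPM hPK)
    apply hnc
    have e : (P.subtype hPK : Subgroup K) ≃* (P : Subgroup G) := Subgroup.subgroupOfEquivOfLe hPK
    exact (e.isCyclic).1 h1

/-- `±1`-action passes to quotients -/
theorem PM_map {G G' : Type*} [Group G] [Group G'] [Finite G] {p : ℕ} [hp : Fact p.Prime] (P : Sylow p G)
    (hab : IsMulCommutative (P : Subgroup G)) (hPM : PM (P : Subgroup G)) (f : G →* G')
    (hf : Function.Surjective f) : PM ((P : Subgroup G).map f) := by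
  intro n' hn'
  obtain ⟨n, rfl⟩ := hf n'
  set L : Subgroup G := ((P : Subgroup G).map f).comap f with hL
  have hPL : (P : Subgroup G) ≤ L := Subgroup.le_comap_map _ _
  have hnP : ((n • P : Sylow p G) : Subgroup G) ≤ L := by
    rintro x ⟨y, hy, rfl⟩
    rw [hL, mem_comap]
    have h1 := (mem_normalizer_iff.1 hn' (f y)).1 (mem_map_of_mem f hy)
    change f (n * y * n⁻¹) ∈ _
    rw [map_mul, map_mul, map_inv]
    exact h1
  obtain ⟨l, hl⟩ := MulAction.exists_smul_eq L (P.subtype hPL) ((n • P : Sylow p G).subtype hnP)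
  rw [Sylow.smul_subtype] at hl
  have hl' : (l : G) • P = n • P := Sylow.subtype_injective hl
  have h2 : ((l : G)⁻¹ * n) • P = P := by rw [mul_smul, ← hl', inv_smul_smul]
  have h3 : (l : G)⁻¹ * n ∈ normalizer ((P : Subgroup G) : Set G) := Sylow.smul_eq_iff_mem_normalizer.1 h2
  have hlP : f l ∈ (P : Subgroup G).map f := l.2
  have hlc : ∀ y ∈ (P : Subgroup G).map f, f l * y * (f l)⁻¹ = y := by
    rintro _ ⟨y, hy, rfl⟩
    obtain ⟨u, hu, hu'⟩ := hlP
    rw [← hu', ← map_mul, comm_of hab hu hy, map_mul, mul_inv_cancel_right]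
  have key : ∀ y ∈ (P : Subgroup G), f n * f y * (f n)⁻¹ = f (((l : G)⁻¹ * n) * y * ((l : G)⁻¹ * n)⁻¹) := by
    intro y hy
    have h4 : ((l : G)⁻¹ * n) * y * ((l : G)⁻¹ * n)⁻¹ ∈ (P : Subgroup G) := (mem_normalizer_iff.1 h3 y).1 hy
    rw [← hlc _ (mem_map_of_mem f h4)]
    simp only [map_mul, map_inv]
    group
  rcases hPM _ h3 with h4 | h4
  · left
    rintro _ ⟨y, hy, rfl⟩
    rw [key y hy, h4 y hy]
  · right
    rintro _ ⟨y, hy, rfl⟩
    rw [key y hy, h4 y hy, map_inv]

/-- with `O^p(G) = G` and `|N(P) : C(P)| = 2` the action is by `±1` -/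
theorem PM_of_index {G : Type*} [Group G] [Finite G] {p : ℕ} [hp : Fact p.Prime] (P : Sylow p G)
    (hab : IsMulCommutative (P : Subgroup G)) (hG : pResidual p G = ⊤)
    (hidx : ((Subgroup.centralizer ((P : Subgroup G) : Set G)).subgroupOf
      (Subgroup.normalizer ((P : Subgroup G) : Set G))).index = 2) : PM (P : Subgroup G) := by
  have hfoc := S0075.result P hab
  rw [hG, inf_top_eq] at hfoc
  set N := normalizer ((P : Subgroup G) : Set G) with hN
  set C := (centralizer ((P : Subgroup G) : Set G)).subgroupOf N with hC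
  intro n hn
  by_cases hnC : n ∈ centralizer ((P : Subgroup G) : Set G)
  · left
    intro x hx
    rw [← mem_centralizer_iff.1 hnC x hx, mul_inv_cancel_right]
  right
  have hconj : ∀ x ∈ (P : Subgroup G), n * x * n⁻¹ ∈ (P : Subgroup G) := fun x hx => (mem_normalizer_iff.1 hn x).1 hx
  -- every element of `N` is in `C` or in `n C`
  have hcos : ∀ m ∈ N, m ∈ centralizer ((P : Subgroup G) : Set G) ∨
      n⁻¹ * m ∈ centralizer ((P : Subgroup G) : Set G) := by
    intro m hm
    by_contra hcon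
    push Not at hcon
    have h1 : (⟨n, hn⟩ : N)⁻¹ * ⟨m, hm⟩ ∈ C := by
      rw [Subgroup.mul_mem_iff_of_index_two hidx, inv_mem_iff]
      constructor
      · intro h2
        exact absurd (mem_subgroupOf.1 h2) hnC
      · intro h2
        exact absurd (mem_subgroupOf.1 h2) hcon.1
    exact hcon.2 (mem_subgroupOf.1 h1)
  have hsq : ∀ x ∈ (P : Subgroup G), n * (n * x * n⁻¹) * n⁻¹ = x := by
    intro x hx
    have h1 : (⟨n, hn⟩ : N) * ⟨n, hn⟩ ∈ C := by
      rw [Subgroup.mul_mem_iff_of_index_two hidx]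
    have h2 := mem_centralizer_iff.1 (mem_subgroupOf.1 h1) x hx
    have h3 : x * (n * n) = (n * n) * x := h2
    calc n * (n * x * n⁻¹) * n⁻¹ = (n * n) * x * (n * n)⁻¹ := by group
      _ = x := by rw [← h3, mul_inv_cancel_right]
  -- the homomorphism `x ↦ x · x^n`
  let f : (P : Subgroup G) →* G :=
    { toFun := fun x => (x : G) * (n * x * n⁻¹)
      map_one' := by simp
      map_mul' := fun x y => by
        have h1 : (y : G) * (n * x * n⁻¹) = (n * x * n⁻¹) * y := comm_of hab y.2 (hconj x x.2)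
        calc ((x * y : (P : Subgroup G)) : G) * (n * ((x * y : (P : Subgroup G)) : G) * n⁻¹)
            = (x : G) * (((y : G) * (n * x * n⁻¹)) * (n * y * n⁻¹)) := by
              rw [Subgroup.coe_mul]; group
          _ = (x : G) * (n * x * n⁻¹) * ((y : G) * (n * y * n⁻¹)) := by rw [h1]; group }
  have hker : (P : Subgroup G) ≤ f.ker.map (P : Subgroup G).subtype := by
    have h1 : ⁅(P : Subgroup G), N⁆ ≤ f.ker.map (P : Subgroup G).subtype := by
      rw [commutator_le]
      intro x hx m hm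
      have hmx : m * x⁻¹ * m⁻¹ ∈ (P : Subgroup G) := (mem_normalizer_iff.1 hm x⁻¹).1 ((P : Subgroup G).inv_mem hx)
      have hxm : x * (m * x⁻¹ * m⁻¹) ∈ (P : Subgroup G) := (P : Subgroup G).mul_mem hx hmx
      refine ⟨⟨x * (m * x⁻¹ * m⁻¹), hxm⟩, ?_, ?_⟩
      · change _ ∈ f.ker
        rw [MonoidHom.mem_ker]
        change x * (m * x⁻¹ * m⁻¹) * (n * (x * (m * x⁻¹ * m⁻¹)) * n⁻¹) = 1
        rcases hcos m hm with h2 | h2
        · have h3 := mem_centralizer_iff.1 h2 x⁻¹ ((P : Subgroup G).inv_mem hx)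
          rw [← h3, mul_inv_cancel_right, mul_inv_cancel, mul_one, mul_inv_cancel, one_mul]
        · have h3 : m * x⁻¹ * m⁻¹ = n * x⁻¹ * n⁻¹ := by
            have h4 := mem_centralizer_iff.1 h2 x⁻¹ ((P : Subgroup G).inv_mem hx)
            calc m * x⁻¹ * m⁻¹ = n * ((n⁻¹ * m) * x⁻¹) * (n⁻¹ * m)⁻¹ * n⁻¹ := by group
              _ = n * x⁻¹ * n⁻¹ := by rw [← h4]; group
          rw [h3]
          have h5 : n * (x * (n * x⁻¹ * n⁻¹)) * n⁻¹ = (n * x * n⁻¹) * x⁻¹ := by
            have h6 := hsq x⁻¹ ((P : Subgroup G).inv_mem hx)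
            calc n * (x * (n * x⁻¹ * n⁻¹)) * n⁻¹ = (n * x * n⁻¹) * (n * (n * x⁻¹ * n⁻¹) * n⁻¹) := by group
              _ = _ := by rw [h6]
          rw [h5]
          have h7 : x * (n * x⁻¹ * n⁻¹) = (n * x⁻¹ * n⁻¹) * x := comm_of hab hx (hconj _ ((P : Subgroup G).inv_mem hx))
          rw [h7]
          have h8 : x * (n * x * n⁻¹ * x⁻¹) = n * x * n⁻¹ := by
            rw [← mul_assoc, comm_of hab hx (hconj x hx), mul_inv_cancel_right]
          calc n * x⁻¹ * n⁻¹ * x * (n * x * n⁻¹ * x⁻¹) = n * x⁻¹ * n⁻¹ * (x * (n * x * n⁻¹ * x⁻¹)) := by group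
            _ = 1 := by rw [h8]; group
      · change x * (m * x⁻¹ * m⁻¹) = x * m * x⁻¹ * m⁻¹
        group
    exact (le_of_eq hfoc).trans h1
  intro x hx
  obtain ⟨y, hy, hyx⟩ := hker hx
  have h1 : f y = 1 := hy
  have h2 : (y : G) = x := hyx
  have h3 : x * (n * x * n⁻¹) = 1 := by rw [← h2]; exact h1
  exact (eq_inv_of_mul_eq_one_right h3)

/-- **S3347** from irreducibility for the simple groups -/
theorem main {G : Type u} [Group G] [Finite G] {p : ℕ} [hp : Fact p.Prime] (hp2 : p ≠ 2)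
    (hAb : ∀ (K : Type u) [Group K] [Finite K] [IsSimpleGroup K], ¬ IsMulCommutative K → AbIrr p K)
    (P : Sylow p G) (hab : IsMulCommutative (P : Subgroup G)) (hnc : ¬ IsCyclic (P : Subgroup G))
    (hidx : ((Subgroup.centralizer ((P : Subgroup G) : Set G)).subgroupOf
      (Subgroup.normalizer ((P : Subgroup G) : Set G))).index = 2) :
    pResidual p G ≠ ⊤ ∨ PLengthLE p 1 G := by
  by_cases hG : pResidual p G = ⊤
  swap
  · exact Or.inl hG
  right
  have hPM := PM_of_index P hab hG hidx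
  have hn : (pPrimeCore p G).Normal := Lib.Cores.pPrimeCore_normal p
  let π := QuotientGroup.mk' (pPrimeCore p G)
  have hπ : Function.Surjective π := QuotientGroup.mk'_surjective _
  let Pb : Sylow p (G ⧸ pPrimeCore p G) := P.mapSurjective hπ
  have hPb : (Pb : Subgroup (G ⧸ pPrimeCore p G)) = (P : Subgroup G).map π := rfl
  have hinj : Function.Injective (π.subgroupMap (P : Subgroup G)) := by
    rw [injective_iff_map_eq_one]
    intro x hx
    have h1 : π (x : G) = 1 := congrArg Subtype.val hx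
    have h2 : (x : G) ∈ pPrimeCore p G := (QuotientGroup.eq_one_iff (x : G)).1 h1
    obtain ⟨k, hk⟩ := P.2 x
    have h3 : orderOf (x : G) ∣ Nat.card (pPrimeCore p G) := Subgroup.orderOf_dvd_natCard _ h2
    have h4 : orderOf (x : G) ∣ p ^ k := orderOf_dvd_of_pow_eq_one (congrArg Subtype.val hk)
    have h5 : (Nat.card (pPrimeCore p G)).Coprime (p ^ k) := (Lib.Cores.pPrimeCore_coprime p).pow_right k
    exact Subtype.ext (orderOf_eq_one_iff.1 (Nat.eq_one_of_dvd_coprimes h5 h3 h4))
  have e : (P : Subgroup G) ≃* ((P : Subgroup G).map π) :=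
    MulEquiv.ofBijective (π.subgroupMap (P : Subgroup G)) ⟨hinj, π.subgroupMap_surjective _⟩
  have hab' : IsMulCommutative (Pb : Subgroup (G ⧸ pPrimeCore p G)) := by
    rw [hPb]
    exact ⟨⟨fun a b => e.symm.injective (by
      rw [map_mul, map_mul]
      exact hab.is_comm.comm _ _)⟩⟩
  have hnc' : ¬ IsCyclic (Pb : Subgroup (G ⧸ pPrimeCore p G)) := by
    rw [hPb]
    intro h1
    exact hnc ((e.isCyclic).2 h1)
  have hO' : pPrimeCore p (G ⧸ pPrimeCore p G) = ⊥ := Lib.Cores.pPrimeCore_quotient_pPrimeCore p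
  have hnor := normal_of_PM hp2 hAb hO' Pb hab' (PM_map P hab hPM π hπ) hnc'
  have h1 : PLengthLE p 1 (G ⧸ pPrimeCore p G) :=
    OddOrderLocal.Thm36Aux.pLength_of_normal_pgroup (Pb : Subgroup _) hnor Pb.2 (by
      rw [Nat.coprime_comm, hp.out.coprime_iff_not_dvd]
      exact Pb.not_dvd_index)
  refine OddOrderLocal.Thm36Aux.pLength_of_surjective π hπ ?_ h1
  rw [QuotientGroup.ker_mk']
  exact Lib.Cores.pPrimeCore_coprime p

end Cfsg.Agent.H345.STA
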